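import Mathlib
import Cfsg.Agent.Lib.helper15.St2
import Cfsg.Agent.Lib.helper7.CeA

/-!
# Project F4G (designer helper6; family F4O / **S2114**): sections over a product of root groups — GENERIC definitions

`σ : Γ →* G` a central extension (`Cfsg.Agent.Lib.helper7.Ce.IsCE`), `X 0, X 1, …, X (n-1)` subgroups of `G` ("root groups", in the order of the angles) with
* `comm`: for `i < j < n` the commutator of `X i` and `X j` lies in the subgroup `ivl X (i+1) (j-1)` generated by the root groups strictly between them (`⊥` for `j = i + 1`);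
* `uniq`: the normal form of `1` in `X 0 * X 1 * ⋯ * X (n-1)` is trivial;
* `s m : X m →* Γ` homomorphic sections over the single root groups;
* `E : Set Γ` ("lifts of the torus"), acting compatibly: conjugation by `σ e` maps `X m` to itself and `s m` is equivariant;
* `van`: every bi-multiplicative, `E`-invariant map `X i × X j → ker σ` (`i < j < n`) is trivial (in the application: no coincidence of torus weights).
Then `σ` is injective on the subgroup `T 0 (n-1)` of `Γ` generated by all `s m (X m)` and maps it ONTO `ivl X 0 (n-1)`: a section over the unipotent group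
(`RootSeq.exists_section`).  Proof: induction on the length of the interval `[i, j]`; the defect of the pair `(X i, X j)` is bi-multiplicative and invariant because
the sections over the shorter intervals `[i, j-1]`, `[i+1, j]`, `[i+1, j-1]` are homomorphisms — NO collection of commutator formulas upstairs is needed.
`cm a b = a * b * a⁻¹ * b⁻¹` (helper7 `CeA`), `cj g a = g * a * g⁻¹` (helper15 `St2`).
-/

set_option autoImplicit false

namespace Cfsg.Agent.Lib.helper6.F4G

open Cfsg.Agent.Lib.helper15.St2 Cfsg.Agent.Lib.helper7.Ce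

variable {G Γ : Type*} [Group G] [Group Γ]

/-- the subgroup generated by the root groups `X i, …, X j` (`⊥` if `j < i`) -/
def ivl (X : ℕ → Subgroup G) (i j : ℕ) : Subgroup G := ⨆ m ∈ Finset.Icc i j, X m

/-- the ordered product `f i * f (i+1) * ⋯ * f (i+d-1)` -/
def oprod (f : ℕ → G) (i d : ℕ) : G := ((List.range d).map (fun m => f (i + m))).prod

/-- `σ` is injective on the subgroup `T` -/
def InjOn (σ : Γ →* G) (T : Subgroup Γ) : Prop := ∀ x ∈ T, σ x = 1 → x = 1

/-- A sequence of `n` root groups with sections, a torus and vanishing defects. -/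
structure RootSeq (σ : Γ →* G) (n : ℕ) where
  X : ℕ → Subgroup G
  comm : ∀ i j, i < j → j < n → ∀ x ∈ X i, ∀ y ∈ X j, cm x y ∈ ivl X (i + 1) (j - 1)
  uniq : ∀ f : ℕ → G, (∀ m, f m ∈ X m) → oprod f 0 n = 1 → ∀ m < n, f m = 1
  s : ∀ m, ↥(X m) →* Γ
  hs : ∀ m (x : ↥(X m)), σ (s m x) = x
  E : Set Γ
  act : ∀ e ∈ E, ∀ m, ∀ x : ↥(X m), ∃ x' : ↥(X m), (x' : G) = cj (σ e) x ∧ s m x' = cj e (s m x)
  van : ∀ i j, i < j → j < n → ∀ f : ↥(X i) → ↥(X j) → Γ, (∀ x y, σ (f x y) = 1) →
    (∀ x x' y, f (x * x') y = f x y * f x' y) → (∀ x y y', f x (y * y') = f x y * f x y') →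
    (∀ e ∈ E, ∀ (x x' : ↥(X i)) (y y' : ↥(X j)), (x' : G) = cj (σ e) x → (y' : G) = cj (σ e) y → f x' y' = f x y) →
    ∀ x y, f x y = 1

namespace RootSeq

variable {σ : Γ →* G} {n : ℕ} (R : RootSeq σ n)

/-- the subgroup of `Γ` generated by the lifted root groups `i, …, j` -/
def T (i j : ℕ) : Subgroup Γ := ⨆ m ∈ Finset.Icc i j, (R.s m).range

/-- the defect of the pair `(X i, X j)` with respect to a section `sec` over the root groups strictly between them:
`cm (s i x) (s j y) * (sec (cm x y))⁻¹` -/
def dft {i j : ℕ} (hij : i < j) (hn : j < n) (sec : ↥(ivl R.X (i + 1) (j - 1)) →* Γ) (x : ↥(R.X i)) (y : ↥(R.X j)) : Γ :=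
  cm (R.s i x) (R.s j y) * (sec ⟨cm (x : G) (y : G), R.comm i j hij hn x x.2 y y.2⟩)⁻¹

end RootSeq

end Cfsg.Agent.Lib.helper6.F4G
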